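import Groth.Agent.Lib.PerfTor23.Basic
import Mathlib.FieldTheory.IsPerfectClosure
import Mathlib.RingTheory.FinitePresentation
import Mathlib.RingTheory.Adjoin.FG
import Mathlib.Algebra.Category.Ring.Under.Basic
import Mathlib.CategoryTheory.Presentable.Finite
import Mathlib.CategoryTheory.ObjectProperty.FullSubcategory

/-!
# Finitely presentable perfect algebras are perfectly finitely presented
-/

set_option autoImplicit false
set_option linter.style.haveILetI false

universe u

open CategoryTheory CategoryTheory.Limits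

namespace Groth.Agent.PerfFP23

open PerfTor23

section algebra

variable {p : ℕ} [hp : Fact p.Prime] {B : Type u} [CommRing B] [CharP B p] {σ : Type u}

theorem exists_pow_eq_of (z : PC (p := p) (A := B) σ) :
    ∃ (n : ℕ) (r : MvPolynomial σ B), z ^ (p ^ n) = PerfectClosure.of _ p r := by
  obtain ⟨⟨n, r⟩, rfl⟩ := PerfectClosure.mk_surjective (MvPolynomial σ B) p z
  refine ⟨n, r, ?_⟩
  rw [← PerfectClosure.iterate_frobenius_mk _ p n r, iterate_frobenius]

/-- The polynomial algebra in its perfection. -/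
noncomputable def ofA : MvPolynomial σ B →ₐ[B] PC (p := p) (A := B) σ :=
  AlgHom.mk (PerfectClosure.of _ p) fun _ => rfl

theorem mem_radical_of_of_mem (I : Ideal (MvPolynomial σ B)) {r : MvPolynomial σ B}
    (h : PerfectClosure.of _ p r ∈ (I.map (PerfectClosure.of (MvPolynomial σ B) p)).radical) : r ∈ I.radical := by
  let R := MvPolynomial σ B
  let T := PC (p := p) (A := B) σ
  have hup : ∀ (z : T) m m' r, m ≤ m' → r ∈ I → z ^ (p ^ m) = PerfectClosure.of R p r →
      ∃ r' ∈ I, z ^ (p ^ m') = PerfectClosure.of R p r' := fun z m m' r hm hr e =>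
    ⟨r ^ (p ^ (m' - m)), Ideal.pow_mem_of_mem _ hr _ (pow_pos hp.out.pos _), by
      rw [map_pow, ← e, ← pow_mul, ← pow_add, Nat.add_sub_cancel' hm]⟩
  let K : Ideal T :=
    { carrier := {z | ∃ m, ∃ r ∈ I, z ^ (p ^ m) = PerfectClosure.of R p r}
      zero_mem' := ⟨0, 0, I.zero_mem, by simp⟩
      add_mem' := by
        rintro a b ⟨m, r, hr, ea⟩ ⟨m', r', hr', eb⟩
        obtain ⟨r₁, h₁, e₁⟩ := hup a m (max m m') r (le_max_left _ _) hr ea
        obtain ⟨r₂, h₂, e₂⟩ := hup b m' (max m m') r' (le_max_right _ _) hr' eb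
        exact ⟨max m m', r₁ + r₂, I.add_mem h₁ h₂, by rw [add_pow_char_pow, e₁, e₂, map_add]⟩
      smul_mem' := by
        rintro c z ⟨m, r, hr, e⟩
        obtain ⟨n, s, hs⟩ := exists_pow_eq_of c
        refine ⟨n + m, s ^ (p ^ m) * r ^ (p ^ n),
          I.mul_mem_left _ (Ideal.pow_mem_of_mem _ hr _ (pow_pos hp.out.pos _)), ?_⟩
        rw [smul_eq_mul, mul_pow, map_mul, map_pow, map_pow, ← hs, ← e, ← pow_mul, ← pow_mul, ← pow_add, ← pow_add,
          add_comm m n] }
  have hK : I.map (PerfectClosure.of R p) ≤ K :=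
    Ideal.map_le_iff_le_comap.2 fun r hr => ⟨0, r, hr, by rw [pow_zero, pow_one]⟩
  obtain ⟨N, hN⟩ := h
  obtain ⟨m, r', hr', e⟩ := hK hN
  rw [← pow_mul, ← map_pow, ← sub_eq_zero, ← map_sub, PerfectClosure.of_apply, PerfectClosure.zero_def,
    PerfectClosure.mk_eq_iff] at e
  obtain ⟨M, hM⟩ := e
  simp only [zero_add, iterate_frobenius, zero_pow (pow_ne_zero _ hp.out.ne_zero)] at hM
  rw [sub_pow_char_pow, sub_eq_zero, ← pow_mul] at hM
  exact ⟨_, hM ▸ Ideal.pow_mem_of_mem _ hr' _ (pow_pos hp.out.pos _)⟩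

/-- The algebraic part. -/
theorem exists_model {n : ℕ} (hB : Perf p B) {A : Type u} [CommRing A] [Algebra B A] [IsReduced A]
    (θ : PC (p := p) (A := B) (ULift.{u} (Fin n)) →ₐ[B] A) (hθ : Function.Surjective θ)
    (S : Finset (RingHom.ker θ))
    (sec : A →ₐ[B] PC (p := p) (A := B) (ULift.{u} (Fin n)) ⧸
      (Ideal.span (Subtype.val '' (S : Set (RingHom.ker θ)))).radical)
    (hsec : ∀ a z, sec a = Ideal.Quotient.mk _ z → θ z = a) :
    ∃ (A₀ : Type u) (_ : CommRing A₀) (_ : Algebra B A₀) (_ : Algebra.FinitePresentation B A₀)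
      (k : A₀ →+* A), k.comp (algebraMap B A₀) = algebraMap B A ∧ IsPRadical k p := by
  classical
  let R := MvPolynomial (ULift.{u} (Fin n)) B
  let T := PC (p := p) (A := B) (ULift.{u} (Fin n))
  let JS : Ideal T := (Ideal.span (Subtype.val '' (S : Set (RingHom.ker θ)))).radical
  choose mS rS hS using fun s : RingHom.ker θ => exists_pow_eq_of s.1
  choose z hz using fun i => Ideal.Quotient.mk_surjective (sec (θ (ofA (MvPolynomial.X i))))
  choose m y hy using fun i => exists_pow_eq_of (z i)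
  let G : Finset R := S.image rS ∪ Finset.univ.image fun i => y i - MvPolynomial.X i ^ (p ^ m i)
  let I : Ideal R := Ideal.span (G : Set R)
  let f : R →ₐ[B] A := θ.comp ofA
  have hI : I ≤ RingHom.ker f := Ideal.span_le.2 fun g hg => by
    rw [SetLike.mem_coe, RingHom.mem_ker]
    rcases Finset.mem_union.1 hg with h | h
    · obtain ⟨s, -, rfl⟩ := Finset.mem_image.1 h
      show θ (PerfectClosure.of R p (rS s)) = 0
      rw [← hS, map_pow, RingHom.mem_ker.1 s.2, zero_pow (pow_ne_zero _ hp.out.ne_zero)]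
    · obtain ⟨i, -, rfl⟩ := Finset.mem_image.1 h
      show θ (PerfectClosure.of R p (y i - MvPolynomial.X i ^ (p ^ m i))) = 0
      rw [map_sub, map_pow, ← hy, map_sub, map_pow, map_pow, hsec _ _ (hz i).symm]
      exact sub_self _
  haveI : Algebra.FinitePresentation B (R ⧸ I) := Algebra.FinitePresentation.quotient ⟨G, rfl⟩
  refine ⟨R ⧸ I, inferInstance, inferInstance, inferInstance, (Ideal.Quotient.liftₐ I f hI).toRingHom,
    RingHom.ext fun b => (Ideal.Quotient.liftₐ I f hI).commutes b, ⟨fun a => ?_, fun x hx => ?_⟩⟩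
  · obtain ⟨t, rfl⟩ := hθ a
    obtain ⟨k, r, hr⟩ := exists_pow_eq_of t
    exact ⟨k, Ideal.Quotient.mk I r, by rw [← map_pow, hr]; rfl⟩
  obtain ⟨r, rfl⟩ := Ideal.Quotient.mk_surjective x
  have hr : θ (ofA r) = 0 := hx
  let J₁ : Ideal T := (I.map (PerfectClosure.of R p)).radical
  have hgen : ∀ g ∈ G, PerfectClosure.of R p g ∈ J₁ := fun g hg =>
    Ideal.le_radical (Ideal.mem_map_of_mem _ (Ideal.subset_span hg))
  have hrad : ∀ (w : T) (k : ℕ), w ^ (p ^ k) ∈ J₁ → w ∈ J₁ := fun w k h =>
    Ideal.radical_isRadical _ ⟨p ^ k, h⟩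
  have hJ : JS ≤ J₁ := (Ideal.radical_isRadical _).radical_le_iff.2 (Ideal.span_le.2 (by
    rintro _ ⟨s, hs, rfl⟩
    refine hrad _ (mS s) ?_
    rw [hS]
    exact hgen _ (Finset.mem_union_left _ (Finset.mem_image_of_mem _ hs))))
  let q : T →ₐ[B] T ⧸ J₁ := Ideal.Quotient.mkₐ B J₁
  have key : q.comp ofA = ((Ideal.Quotient.factorₐ B hJ).comp (sec.comp θ)).comp ofA := by
    refine MvPolynomial.algHom_ext fun i => ?_
    show Ideal.Quotient.mk J₁ (ofA (MvPolynomial.X i)) =
      Ideal.Quotient.factor hJ (sec (θ (ofA (MvPolynomial.X i))))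
    rw [← hz i, Ideal.Quotient.factor_mk]
    refine Ideal.Quotient.eq.2 (hrad _ (m i) ?_)
    rw [sub_pow_char_pow, hy, ← neg_sub, neg_mem_iff]
    have := hgen (y i - MvPolynomial.X i ^ (p ^ m i))
      (Finset.mem_union_right _ (Finset.mem_image_of_mem _ (Finset.mem_univ i)))
    rwa [map_sub, map_pow] at this
  have h0 : Ideal.Quotient.mk J₁ (ofA r) = 0 := by
    refine (AlgHom.congr_fun key r).trans ?_
    show Ideal.Quotient.factor hJ (sec (θ (ofA r))) = 0
    rw [hr, map_zero, map_zero]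
  obtain ⟨N, hN⟩ := mem_radical_of_of_mem I (Ideal.Quotient.eq_zero_iff_mem.1 h0)
  refine mem_pNilradical.2 ⟨N, ?_⟩
  rw [← map_pow, Ideal.Quotient.eq_zero_iff_mem,
    ← Nat.sub_add_cancel (Nat.lt_pow_self hp.out.one_lt : N < p ^ N).le, pow_add]
  exact I.mul_mem_left _ hN

end algebra

section cat

variable (p : ℕ) (B : CommRingCat.{u})

/-- Perfect algebras. -/
abbrev Cat := ObjectProperty.FullSubcategory fun Y : Under B =>
  (p : Y.right) = 0 ∧ Function.Bijective fun y : Y.right => y ^ p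

variable {p B}

/-- A perfect algebra as an object. -/
noncomputable def obj (X : Type u) [CommRing X] [Algebra B X] (h : Perf p X) : Cat p B :=
  ⟨B.mkUnder X, h.char, h.bij⟩

/-- A morphism of perfect algebras. -/
noncomputable def mor {X Y : Cat p B} (f : X.obj.right →+* Y.obj.right)
    (hf : ∀ b, f (X.obj.hom b) = Y.obj.hom b) : X ⟶ Y :=
  ObjectProperty.homMk (Under.homMk (CommRingCat.ofHom f) (CommRingCat.hom_ext (RingHom.ext hf)))

theorem mor_ext {X Y : Cat p B} {f g : X ⟶ Y} (h : ∀ x, f.hom.right x = g.hom.right x) : f = g :=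
  InducedCategory.hom_ext (Under.UnderMorphism.ext (CommRingCat.hom_ext (RingHom.ext h)))

theorem mor_commutes {X Y : Cat p B} (f : X ⟶ Y) (b : B) : f.hom.right (X.obj.hom b) = Y.obj.hom b :=
  ConcreteCategory.congr_hom (Under.w f.hom) b

variable [hp : Fact p.Prime]

theorem comp_apply' {X Y Z : Cat p B} (f : X ⟶ Y) (g : Y ⟶ Z) (x : X.obj.right) :
    (f ≫ g).hom.right x = g.hom.right (f.hom.right x) := rfl

theorem mor_apply {X Y : Cat p B} (f : X.obj.right →+* Y.obj.right) (hf : ∀ b, f (X.obj.hom b) = Y.obj.hom b)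
    (x : X.obj.right) : (mor f hf).hom.right x = f x := rfl

variable {X Y Z : Type u} [CommRing X] [Algebra B X] [CommRing Y] [Algebra B Y] [CommRing Z] [Algebra B Z]

/-- A morphism of perfect algebras from an algebra map. -/
noncomputable def hom (hX : Perf p X) (hY : Perf p Y) (f : X →ₐ[B] Y) : obj (B := B) X hX ⟶ obj (B := B) Y hY :=
  ObjectProperty.homMk f.toUnder

theorem hom_apply (hX : Perf p X) (hY : Perf p Y) (f : X →ₐ[B] Y) (x : X) : (hom hX hY f).hom.right x = f x := rfl

theorem hom_id (hX : Perf p X) : hom hX hX (AlgHom.id B X) = 𝟙 (obj (B := B) X hX) := mor_ext fun _ => rfl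

theorem hom_comp (hX : Perf p X) (hY : Perf p Y) (hZ : Perf p Z) (f : X →ₐ[B] Y) (g : Y →ₐ[B] Z) :
    hom hX hY f ≫ hom hY hZ g = hom hX hZ (g.comp f) := mor_ext fun _ => rfl

section sub

variable (hX : Perf p X) (W : Finset X → Subalgebra B X) (hmono : Monotone W) (hW : ∀ F, Perf p (W F))
  (hmem : ∀ a, a ∈ W {a})

/-- The diagram of subalgebras. -/
noncomputable def subDiag : Finset X ⥤ Cat p B where
  obj F := obj (B := B) (W F) (hW F)
  map h := hom (hW _) (hW _) (Subalgebra.inclusion (hmono (leOfHom h)))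
  map_id F := by
    rw [← hom_id (hW F)]
    exact congrArg _ Subalgebra.inclusion_self
  map_comp f g := by
    rw [hom_comp]
    exact congrArg _ (AlgHom.ext fun x => rfl)

/-- Its cocone. -/
noncomputable def subCocone : Cocone (subDiag W hmono hW) where
  pt := obj (B := B) X hX
  ι :=
    { app := fun F => hom (hW F) hX (W F).val
      naturality := fun F G f => mor_ext fun x => rfl }

variable (c : Cocone (subDiag W hmono hW))

/-- The components of a cocone. -/
noncomputable def subφ (F : Finset X) : W F →+* c.pt.obj.right := (c.ι.app F).hom.right.hom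

theorem subφ_incl {F G : Finset X} (h : F ≤ G) (x : W F) :
    subφ W hmono hW c G (Subalgebra.inclusion (hmono h) x) = subφ W hmono hW c F x := by
  have e := congrArg (fun g => g.hom.right x) (c.w (homOfLE h))
  rw [comp_apply'] at e
  exact e

theorem subφ_eq {F G : Finset X} (x : W F) (y : W G) (h : x.1 = y.1) :
    subφ W hmono hW c F x = subφ W hmono hW c G y := by
  classical
  rw [← subφ_incl W hmono hW c (le_sup_left : F ≤ F ⊔ G) x, ← subφ_incl W hmono hW c (le_sup_right : G ≤ F ⊔ G) y]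
  exact congrArg _ (Subtype.ext h)

include hmem in
/-- The map out of the union. -/
noncomputable def subDesc : X →+* c.pt.obj.right where
  toFun a := subφ W hmono hW c {a} ⟨a, hmem a⟩
  map_one' := (subφ_eq W hmono hW c (G := {(1 : X)}) _ 1 rfl).trans (map_one _)
  map_zero' := (subφ_eq W hmono hW c (G := {(0 : X)}) _ 0 rfl).trans (map_zero _)
  map_mul' a b := by
    classical
    have ha : a ∈ W ({a} ⊔ {b}) := hmono le_sup_left (hmem a)
    have hb : b ∈ W ({a} ⊔ {b}) := hmono le_sup_right (hmem b)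
    rw [subφ_eq W hmono hW c (F := {a}) (G := {a} ⊔ {b}) ⟨a, _⟩ ⟨a, ha⟩ rfl,
      subφ_eq W hmono hW c (F := {b}) (G := {a} ⊔ {b}) ⟨b, _⟩ ⟨b, hb⟩ rfl, ← map_mul]
    exact subφ_eq W hmono hW c _ _ rfl
  map_add' a b := by
    classical
    have ha : a ∈ W ({a} ⊔ {b}) := hmono le_sup_left (hmem a)
    have hb : b ∈ W ({a} ⊔ {b}) := hmono le_sup_right (hmem b)
    rw [subφ_eq W hmono hW c (F := {a}) (G := {a} ⊔ {b}) ⟨a, _⟩ ⟨a, ha⟩ rfl,
      subφ_eq W hmono hW c (F := {b}) (G := {a} ⊔ {b}) ⟨b, _⟩ ⟨b, hb⟩ rfl, ← map_add]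
    exact subφ_eq W hmono hW c _ _ rfl

include hmem in
theorem subDesc_commutes (b : B) : subDesc W hmono hW hmem c (algebraMap B X b) = c.pt.obj.hom b :=
  (subφ_eq W hmono hW c (G := {algebraMap B X b}) _ (algebraMap B (W {algebraMap B X b}) b) rfl).trans
    (mor_commutes (c.ι.app {algebraMap B X b}) b)

include hmono hW hmem in
/-- A finitely presentable union of subalgebras is one of them. -/
theorem exists_eq_top_of_union [IsFinitelyPresentable.{u} (obj (B := B) X hX)] : ∃ F, ∀ a, a ∈ W F := by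
  have hc : IsColimit (subCocone hX W hmono hW) :=
    { desc := fun c => mor (X := obj (B := B) X hX) (subDesc W hmono hW hmem c) (subDesc_commutes W hmono hW hmem c)
      fac := fun c F => mor_ext fun x => subφ_eq W hmono hW c (F := {x.1}) (G := F) ⟨x.1, hmem _⟩ x rfl
      uniq := fun c g hg => mor_ext fun a => congrArg (fun h => h.hom.right (⟨a, hmem a⟩ : W {a})) (hg {a}) }
  obtain ⟨F, q, hq⟩ := IsFinitelyPresentable.exists_hom_of_isColimit hc (𝟙 (obj (B := B) X hX))
  refine ⟨F, fun a => ?_⟩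
  let w : W F := q.hom.right a
  have e : w.1 = a := congrArg (fun h => h.hom.right a) hq
  exact e ▸ w.2

end sub

section quot

variable {T : Type u} [CommRing T] [Algebra B T] (hX : Perf p X) (θ : T →ₐ[B] X) (hθ : Function.Surjective θ)
  (J : Finset (RingHom.ker θ) → Ideal T) (hmono : Monotone J) (hJθ : ∀ S, J S ≤ RingHom.ker θ)
  (hperf : ∀ S, Perf p (T ⧸ J S)) (hmem : ∀ s, s.1 ∈ J {s})

/-- The diagram of quotients. -/
noncomputable def quotDiag : Finset (RingHom.ker θ) ⥤ Cat p B where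
  obj S := obj (B := B) (T ⧸ J S) (hperf S)
  map h := hom (hperf _) (hperf _) (Ideal.Quotient.factorₐ B (hmono (leOfHom h)))
  map_id S := by
    rw [← hom_id (hperf S)]
    exact congrArg _ (Ideal.Quotient.algHom_ext _ (AlgHom.ext fun x => rfl))
  map_comp f g := by
    rw [hom_comp]
    exact congrArg _ (Ideal.Quotient.algHom_ext _ (AlgHom.ext fun x => rfl))

/-- Its cocone. -/
noncomputable def quotCocone : Cocone (quotDiag θ J hmono hperf) where
  pt := obj (B := B) X hX
  ι :=
    { app := fun S => hom (hperf S) hX (Ideal.Quotient.liftₐ (J S) θ (hJθ S))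
      naturality := fun S S' f => mor_ext fun x => by obtain ⟨x, rfl⟩ := Ideal.Quotient.mk_surjective x; rfl }

variable (c : Cocone (quotDiag θ J hmono hperf))

/-- The components of a cocone. -/
noncomputable def quotφ (S : Finset (RingHom.ker θ)) : T →+* c.pt.obj.right :=
  (c.ι.app S).hom.right.hom.comp (Ideal.Quotient.mk (J S))

theorem quotφ_eq (S : Finset (RingHom.ker θ)) (x : T) :
    quotφ θ J hmono hperf c ∅ x = quotφ θ J hmono hperf c S x := by
  have e := congrArg (fun g => g.hom.right (Ideal.Quotient.mk (J ∅) x)) (c.w (homOfLE (Finset.empty_subset S)))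
  rw [comp_apply'] at e
  exact e.symm

include hmem in
theorem ker_le_quotφ : RingHom.ker θ.toRingHom ≤ RingHom.ker (quotφ θ J hmono hperf c ∅) := fun x hx => by
  rw [RingHom.mem_ker, quotφ_eq θ J hmono hperf c {⟨x, hx⟩}]
  show (c.ι.app _).hom.right.hom (Ideal.Quotient.mk _ x) = 0
  rw [Ideal.Quotient.eq_zero_iff_mem.2 (hmem ⟨x, hx⟩)]
  exact map_zero _

include hθ hmono hJθ hperf hmem in
/-- A finitely presentable quotient is a retract of the quotient by finitely many relations. -/
theorem exists_section [IsFinitelyPresentable.{u} (obj (B := B) X hX)] :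
    ∃ (S : Finset (RingHom.ker θ)) (sec : X →ₐ[B] T ⧸ J S), ∀ a z, sec a = Ideal.Quotient.mk _ z → θ z = a := by
  let dd : ∀ c : Cocone (quotDiag θ J hmono hperf), X →+* c.pt.obj.right := fun c =>
    θ.toRingHom.liftOfSurjective hθ ⟨_, ker_le_quotφ θ J hmono hperf hmem c⟩
  have hdd : ∀ c x, dd c (θ x) = quotφ θ J hmono hperf c ∅ x := fun c x =>
    RingHom.liftOfSurjective_comp_apply _ _ _ x
  have hc : IsColimit (quotCocone hX θ J hmono hJθ hperf) :=
    { desc := fun c => mor (X := obj (B := B) X hX) (dd c) fun b => by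
        show dd c (algebraMap B X b) = _
        rw [← θ.commutes b, hdd]
        exact mor_commutes (c.ι.app ∅) b
      fac := fun c S => mor_ext fun x => by
        obtain ⟨x, rfl⟩ := Ideal.Quotient.mk_surjective x
        exact (hdd c x).trans (quotφ_eq θ J hmono hperf c S x)
      uniq := fun c g hg => mor_ext fun a => by
        obtain ⟨x, rfl⟩ := hθ a
        exact (congrArg (fun h => h.hom.right (Ideal.Quotient.mk (J ∅) x)) (hg ∅)).trans (hdd c x).symm }
  obtain ⟨S, r, hr⟩ := IsFinitelyPresentable.exists_hom_of_isColimit hc (𝟙 (obj (B := B) X hX))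
  refine ⟨S, AlgHom.mk r.hom.right.hom (fun b => mor_commutes r b), fun a z h => ?_⟩
  have e : Ideal.Quotient.liftₐ (J S) θ (hJθ S) (r.hom.right a) = a := congrArg (fun g => g.hom.right a) hr
  rw [show r.hom.right a = Ideal.Quotient.mk (J S) z from h] at e
  exact e

end quot

/-- A perfect algebra is its underlying algebra. -/
noncomputable def isoObj (A : Cat p B) [Algebra B A.obj.right] (halg : algebraMap B A.obj.right = A.obj.hom.hom)
    (h : Perf p A.obj.right) : A ≅ obj (B := B) A.obj.right h where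
  hom := mor (RingHom.id _) fun b => (RingHom.congr_fun halg b).symm
  inv := mor (RingHom.id _) fun b => RingHom.congr_fun halg b
  hom_inv_id := mor_ext fun _ => rfl
  inv_hom_id := mor_ext fun _ => rfl

/-- The algebraic form of the theorem. -/
theorem exists_model_of_fp [CharP B p] [PerfectRing B p] (hX : Perf p X) [Nontrivial X]
    [IsFinitelyPresentable.{u} (obj (B := B) X hX)] :
    ∃ (A₀ : Type u) (_ : CommRing A₀) (_ : Algebra B A₀) (_ : Algebra.FinitePresentation B A₀)
      (k : A₀ →+* X), k.comp (algebraMap B A₀) = algebraMap B X ∧ IsPRadical k p := by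
  classical
  have hB : Perf p B := ⟨CharP.cast_eq_zero B p, PerfectRing.bijective_frobenius⟩
  haveI : CharP X p := (CharP.charP_iff_prime_eq_zero hp.out).2 hX.char
  haveI := isReduced hX
  -- perfectly of finite type
  let W : Finset X → Subalgebra B X := fun F =>
    { carrier := {a | ∃ m, a ^ (p ^ m) ∈ Algebra.adjoin B (F : Set X)}
      mul_mem' := by
        rintro a b ⟨m, hm⟩ ⟨m', hm'⟩
        refine ⟨m + m', ?_⟩
        rw [mul_pow, pow_add, pow_mul, mul_comm (p ^ m) (p ^ m'), pow_mul b]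
        exact mul_mem (pow_mem hm _) (pow_mem hm' _)
      add_mem' := by
        rintro a b ⟨m, hm⟩ ⟨m', hm'⟩
        refine ⟨m + m', ?_⟩
        rw [add_pow_char_pow, pow_add, pow_mul, mul_comm (p ^ m) (p ^ m'), pow_mul b]
        exact add_mem (pow_mem hm _) (pow_mem hm' _)
      algebraMap_mem' := fun b => ⟨0, by rw [pow_zero, pow_one]; exact Subalgebra.algebraMap_mem _ b⟩ }
  have hmono : Monotone W := fun F F' h a ⟨m, hm⟩ => ⟨m, Algebra.adjoin_mono (Finset.coe_subset.2 h) hm⟩
  have hW : ∀ F, Perf p (W F) := fun F => ⟨Subtype.ext (by simpa using hX.char),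
    fun a b h => Subtype.ext (hX.bij.1 (congrArg Subtype.val h)), fun a => by
      obtain ⟨r, hr⟩ := hX.bij.2 a.1
      have hr' : r ^ p = a.1 := hr
      obtain ⟨m, hm⟩ := a.2
      exact ⟨⟨r, m + 1, by rw [pow_succ', pow_mul, hr']; exact hm⟩, Subtype.ext hr'⟩⟩
  obtain ⟨F, hgen⟩ := exists_eq_top_of_union hX W hmono hW fun a =>
    ⟨0, by rw [pow_zero, pow_one]; exact Algebra.subset_adjoin (Finset.mem_coe.2 (Finset.mem_singleton_self a))⟩
  -- the presentation
  let g : ULift.{u} (Fin F.card) → X := fun i => (F.equivFin.symm i.down).1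
  haveI : PerfectRing X p := ⟨hX.bij⟩
  let T := PC (p := p) (A := (B : Type u)) (ULift.{u} (Fin F.card))
  let θ₀ := PerfectClosure.lift (MvPolynomial (ULift.{u} (Fin F.card)) B) p X (MvPolynomial.aeval g).toRingHom
  have hof : ∀ r, θ₀ (PerfectClosure.of _ p r) = MvPolynomial.aeval g r := fun r => rfl
  let θ : T →ₐ[B] X := AlgHom.mk θ₀ fun b => (hof (MvPolynomial.C b)).trans (MvPolynomial.aeval_C _ b)
  have hT : Perf p T := perf_PC _
  have hθ : Function.Surjective θ := fun a => by
    obtain ⟨m, hm⟩ := hgen a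
    have hr : Algebra.adjoin B (F : Set X) ≤ (MvPolynomial.aeval g).range := Algebra.adjoin_le fun x hx =>
      ⟨MvPolynomial.X ⟨F.equivFin ⟨x, hx⟩⟩, by simp [g]⟩
    obtain ⟨r, hr⟩ := hr hm
    refine ⟨(rt hT)^[m] (ofA r), inj_pow hX m ?_⟩
    rw [← map_pow, iterate_rt_pow]
    exact (hof r).trans hr
  -- finite presentation of the kernel
  let J : Finset (RingHom.ker θ) → Ideal T := fun S => (Ideal.span (Subtype.val '' (S : Set (RingHom.ker θ)))).radical
  have hperf : ∀ S, Perf p (T ⧸ J S) := fun S => by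
    refine ⟨by rw [← map_natCast (Ideal.Quotient.mk (J S)), hT.char, map_zero], fun a b hab => ?_, fun a => ?_⟩
    · obtain ⟨a, rfl⟩ := Ideal.Quotient.mk_surjective a
      obtain ⟨b, rfl⟩ := Ideal.Quotient.mk_surjective b
      refine Ideal.Quotient.eq.2 ((Ideal.radical_isRadical _) ⟨p, ?_⟩)
      rw [sub_pow_char]
      exact Ideal.Quotient.eq.1 (by simpa using hab)
    · obtain ⟨a, rfl⟩ := Ideal.Quotient.mk_surjective a
      exact ⟨Ideal.Quotient.mk _ (rt hT a), by simp [← map_pow, rt_pow]⟩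
  obtain ⟨S, sec, hsec⟩ := exists_section hX θ hθ J
    (fun _ _ h => Ideal.radical_mono (Ideal.span_mono (Set.image_mono (Finset.coe_subset.2 h))))
    (fun S => ((RingHom.ker_isRadical_iff_reduced_of_surjective hθ).2 inferInstance).radical_le_iff.2
      (Ideal.span_le.2 fun _ ⟨s, _, e⟩ => e ▸ s.2))
    hperf (fun s => Ideal.le_radical (Ideal.subset_span ⟨s, Finset.mem_singleton_self _, rfl⟩))
  exact exists_model hB θ hθ S sec hsec

/-- A finitely presentable perfect algebra is perfectly finitely presented. -/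
theorem exists_model_of_isFinitelyPresentable [CharP B p] [PerfectRing B p] (A : Cat p B)
    [IsFinitelyPresentable.{u} A] :
    ∃ (A₀ : Type u) (_ : CommRing A₀) (_ : Algebra B A₀) (_ : Algebra.FinitePresentation B A₀)
      (k : A₀ →+* A.obj.right), k.comp (algebraMap B A₀) = A.obj.hom.hom ∧ IsPRadical k p := by
  letI : Algebra B A.obj.right := A.obj.hom.hom.toAlgebra
  have hA : Perf p A.obj.right := ⟨A.property.1, A.property.2⟩
  rcases subsingleton_or_nontrivial A.obj.right with hs | hs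
  · refine ⟨B ⧸ (⊤ : Ideal B), inferInstance, inferInstance, Algebra.FinitePresentation.quotient ⟨{1}, by simp⟩,
      ⟨⟨⟨fun _ => 1, rfl⟩, fun _ _ => Subsingleton.elim _ _⟩, Subsingleton.elim _ _, fun _ _ => Subsingleton.elim _ _⟩,
      RingHom.ext fun _ => Subsingleton.elim _ _, ⟨fun x => ⟨0, 1, Subsingleton.elim _ _⟩, fun x _ =>
        mem_pNilradical.2 ⟨0, (Submodule.Quotient.subsingleton_iff.2 rfl).elim _ _⟩⟩⟩
  haveI : Fact Cardinal.aleph0.{u}.IsRegular := ⟨Cardinal.isRegular_aleph0⟩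
  haveI : IsFinitelyPresentable.{u} (obj (B := B) A.obj.right hA) :=
    isCardinalPresentable_of_iso (isoObj A rfl hA) _
  exact exists_model_of_fp hA

end cat

end Groth.Agent.PerfFP23
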